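import Cfsg.Agent.H96.G2L.UProd2
import Cfsg.Agent.H23.CommAllG2
import Cfsg.Agent.H23.ChFG2
import Cfsg.Agent.H23.Tab2G2
import Cfsg.Agent.H23.PerfG2
import Cfsg.Agent.H23.Canon
import Cfsg.Agent.H46.StMain
import Cfsg.Agent.H46.StDataG2
import Cfsg.Agent.H46.ChevWeylQuot
import Cfsg.Agent.H46.CoxRootData
import Cfsg.Agent.H22.ReeBru

set_option autoImplicit false
set_option maxRecDepth 100000

/-!
# The four facts on `G₂(K)` behind S2127 with a `G₂`-only closure (helper96)

S2127 (outer automorphisms of the small Ree groups) uses the `G₂` instances of four statements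
proved for all seven tabulated types (S1077 Steinberg presentation, S1026 unique factorisation in
`U`, S1100 canonical form, S1039 `N/H ≅ W`).  Their files import the tables of every type,
`E₈` included.  Here the same generic theorems of helper23 / helper46 are instantiated for `G₂`
alone; the `G₂` block of `Cfsg/Agent/H23/UProdTab.lean` is repeated verbatim, on top of the copies
`G2L/UProd.lean`, `G2L/UProd2.lean` of the generic factorisation files (their originals import
the all-types chain).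
-/

namespace Cfsg.Agent.H96.G2L

open Cfsg.Lie Cfsg.Agent.H23 Cfsg.Agent.H46

/-- Copy of `Cfsg.Agent.H23.Chk.admZ` (`Cfsg/Agent/H23/Levi.lean`, whose imports are the
all-types chain). -/
theorem chk_admZ {D : ChevalleyDatum} {tbl ctbl : List ℕ} (hC : Chk D tbl ctbl) :
    ∀ Z ∈ ctbl, Adm D (zS Z D.nroots) := by
  intro Z hZ
  obtain ⟨i, hi, rfl⟩ := List.mem_iff_getElem.mp hZ
  have h1 := hC.adm i hi
  have h2 : ctbl.getD i 0 = ctbl[i] := by simp [List.getD, hi]
  rw [admRow, h2] at h1
  exact checkAdm_sound D tbl hC.tblOK _ (all_of_allFrom _ _ h1)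

/-- The positive roots of type G2 are the roots of index at least `nroots / 2`. -/
theorem tabHalf_G2 : ∀ r < chevG2.nroots, chevG2.IsPosRoot r ↔ chevG2.nroots / 2 ≤ r := by decide +kernel

/-- A weight function of type G2 for which the positive roots are in lexicographic order. -/
def omLexG2 : List ℤ := [9, 14]

theorem htLex_G2_pos : ∀ r < chevG2.nroots, chevG2.nroots / 2 ≤ r → 0 < zRl omLexG2 ctblG2 chevG2.nroots r := by
  decide +kernel

theorem htLex_G2_mono : ∀ r < chevG2.nroots, chevG2.nroots / 2 ≤ r → ∀ s < chevG2.nroots, r < s →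
    zRl omLexG2 ctblG2 chevG2.nroots r < zRl omLexG2 ctblG2 chevG2.nroots s := by decide +kernel

theorem htLex_G2 : HtLex chevG2 (zRl omLexG2 ctblG2 chevG2.nroots) :=
  htLex_of (chk_admZ chk_G2) tabHalf_G2 htLex_G2_pos htLex_G2_mono

theorem tabCP_G2_rows : allFrom (cpRowF chevG2.nroots chFG2) (chevG2.nroots / 2) (chevG2.nroots - chevG2.nroots / 2) = true := by
  decide +kernel

theorem tabCP_G2 : TabCP chevG2 := tabCP_of chfOK_G2 tabHalf_G2 tabCP_G2_rows

/-- Bezout coefficients for the coroot coordinates of the positive roots of type G2. -/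
def bzG2 : List (List ℤ) := [[0, 1], [1, 0], [1, 0], [-1, 1], [0, 1], [1, 0]]

theorem bez_G2 : ∀ k < chevG2.nroots, chevG2.nroots / 2 ≤ k →
    ((List.range chevG2.rank).map fun i => bzF chevG2 bzG2 k i * (chevG2.coroot.getD k #[]).getD i 0).sum = 1 := by
  decide +kernel

/-- Unique factorisation in `U` for type G2. -/
theorem factor_G2 {F : Type*} [Field F] :
    (∀ g : GL chevG2.Idx F, g ∈ chevG2.posUnipotent F →
      ∃! t : ℕ → F, (∀ r, ¬ chevG2.IsPosRoot r → t r = 0) ∧
        (g : Matrix chevG2.Idx chevG2.Idx F) = chevG2.wordMat F (chevG2.posRoots.map fun r => (r, t r))) ∧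
    (∀ t : ℕ → F, ∃ g : GL chevG2.Idx F, g ∈ chevG2.posUnipotent F ∧
      (g : Matrix chevG2.Idx chevG2.Idx F) = chevG2.wordMat F (chevG2.posRoots.map fun r => (r, t r))) :=
  factor_of (chk_G2.sem F) tab_G2 tab2_G2 (fun r s hr hs h1 h2 => commAll_G2 r s hr hs h1 h2) tabCP_G2
    htLex_G2 (bzF chevG2 bzG2) (bez_of bzG2 tabHalf_G2 bez_G2)

/-- The basic pack of table facts for `G₂`. -/
theorem packB_G2 (F : Type*) [Field F] :
    PackB chevG2 F (zR chevG2 ctblG2) (fun i s => etaBit (etaG2.getD i 0) s) :=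
  ⟨chk_G2.sem F, nconj_G2.semN chk_G2.tblOK F, comm_G2.semC chk_G2.tblOK F, tab_G2, tabC_G2,
    etaNeg_G2, tab2_G2⟩

theorem semV_G2 (F : Type*) [Field F] : SemV chevG2 F := trin_G2.semV chk_G2.tblOK F

theorem tabL_G2' : TabL chevG2 rTG2 where
  one := by decide +kernel
  lin := by decide +kernel
  pos := by decide +kernel
  neg := by decide +kernel

/-- Steinberg's presentation theorem for `G₂` (the `G₂` instance of S1077). -/
theorem steinberg_G2 (K : Type*) [Field K] :
    ∃ θ : chevG2.SteinbergGroup K →* ↥(chevG2.group K), Function.Surjective θ ∧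
      θ.ker = Subgroup.center (chevG2.SteinbergGroup K) ∧
      ∀ (r : ℕ) (t : K), r < chevG2.nroots →
        ((θ (chevG2.stGen K r t) : GL chevG2.Idx K) : Matrix chevG2.Idx chevG2.Idx K) =
          chevG2.x K r t :=
  steinberg_ker_center (stChkG2.tab tab_G2) (packB_G2 K) (semV_G2 K) tabW_G2
    (fun r s hr hs h1 h2 t u => commAll_G2 r s hr hs h1 h2 t u)

/-- The canonical form in `G₂(K)` (the `G₂` instance of S1100). -/
theorem canon_G2 (K : Type*) [Field K] : Cfsg.Agent.H22.Ree.CanonG2 K :=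
  ⟨fun g hg => canon_exists (packB_G2 K) (semV_G2 K) tabT_G2 tabL_G2' g hg,
    fun b b' n n' u u' hb hb' hn hn' hu hu' e =>
      canon_unique (packB_G2 K) (semV_G2 K) b b' n n' u u' hb hb' hn hn' hu hu' e⟩

/-- `N/H ≅ W` for `G₂(K)` (the `G₂` instance of S1039). -/
theorem weyl_G2 (K : Type*) [Field K] : Cfsg.Agent.H22.Ree.WeylG2 K :=
  monomial_quot_of_pack (packB_G2 K) rfl rfl CoxeterMatrix.G₂ cxrG2_g cxrG2_lift cxrG2_g_eq
    cxrG2_faithful

end Cfsg.Agent.H96.G2L
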