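import Cfsg.Agent.H23.CommAll
import Cfsg.Agent.H23.FieldFix

set_option autoImplicit false

/-!
# Unique factorisation in the unipotent subgroup `U`

Every element of `U` is uniquely a product of root elements `x_r(t_r)` over the positive roots in increasing
order of their indices, when this order is that of an additive weight function.
-/

namespace Cfsg.Agent.H96.G2L

open Cfsg.Agent.H23

open Cfsg.Lie

section GradedM

variable {ι : Type*} [Fintype ι] [DecidableEq ι] {F : Type*} [Field F]

/-- Nonzero entries raise the level by more than `m`. -/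
def RaisM (w : ι → ℤ) (m : ℤ) (M : Matrix ι ι F) : Prop := ∀ i j, M i j ≠ 0 → w j + m < w i

theorem RaisM.add {w : ι → ℤ} {m : ℤ} {M M' : Matrix ι ι F} (h : RaisM w m M) (h' : RaisM w m M') :
    RaisM w m (M + M') := by
  intro i j hij
  by_cases h1 : M i j = 0
  · by_cases h2 : M' i j = 0
    · exact absurd (by simp [h1, h2]) hij
    · exact h' i j h2
  · exact h i j h1

theorem RaisM.mul {w : ι → ℤ} {m : ℤ} (hm : 0 ≤ m) {M M' : Matrix ι ι F} (h : RaisM w m M)
    (h' : RaisM w m M') : RaisM w m (M * M') := by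
  intro i j hij
  obtain ⟨l, h1, h2⟩ := exists_of_mul_ne_zero hij
  have e1 := h i l h1
  have e2 := h' l j h2
  omega

theorem RaisM.zero {w : ι → ℤ} {m : ℤ} : RaisM w m (0 : Matrix ι ι F) := fun i j h => absurd rfl h

theorem raisM_mul_sub_one {w : ι → ℤ} {m : ℤ} (hm : 0 ≤ m) {A B : Matrix ι ι F} (hA : RaisM w m (A - 1))
    (hB : RaisM w m (B - 1)) : RaisM w m (A * B - 1) := by
  have e : A * B - 1 = (A - 1) * (B - 1) + (A - 1) + (B - 1) := by noncomm_ring
  rw [e]
  exact ((hA.mul hm hB).add hA).add hB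

/-- The group of invertible matrices `1 + M` with `M` raising the level by more than `m ≥ 0`. -/
def raisGroupM (F : Type*) [Field F] (w : ι → ℤ) (m : ℤ) (hm : 0 ≤ m) : Subgroup (GL ι F) where
  carrier := {g | RaisM w m ((g : Matrix ι ι F) - 1) ∧ RaisM w m (((g⁻¹ : GL ι F) : Matrix ι ι F) - 1)}
  mul_mem' := by
    rintro a b ⟨ha, ha'⟩ ⟨hb, hb'⟩
    refine ⟨by rw [Units.val_mul]; exact raisM_mul_sub_one hm ha hb, ?_⟩
    rw [_root_.mul_inv_rev, Units.val_mul]; exact raisM_mul_sub_one hm hb' ha'
  one_mem' := by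
    refine ⟨?_, ?_⟩
    · rw [Units.val_one, sub_self]; exact RaisM.zero
    · rw [inv_one, Units.val_one, sub_self]; exact RaisM.zero
  inv_mem' := by
    rintro a ⟨ha, ha'⟩
    exact ⟨ha', by simpa using ha⟩

end GradedM

variable {D : ChevalleyDatum} {F : Type*} [Field F] {z : ℕ → ℕ → ℤ}

/-- Every column of `x_r` starts with its diagonal entry; the other entries carry a positive power. -/
theorem xEntries_head (r c : ℕ) (hc : c < D.nroots + D.rank) :
    ∃ rest, xEntries D r c = (c, 1, 0) :: rest ∧ ∀ x ∈ rest, 1 ≤ x.2.2 := by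
  unfold xEntries
  by_cases h1 : c < D.nroots
  · rw [if_pos h1]
    by_cases h2 : c = r
    · rw [if_pos h2]; exact ⟨[], rfl, by simp⟩
    · rw [if_neg h2]
      by_cases h3 : c = D.negIdx.getD r 0
      · rw [if_pos h3]
        refine ⟨_, rfl, ?_⟩
        intro x hx
        rw [List.mem_cons] at hx
        rcases hx with rfl | hx
        · simp
        · simp only [List.mem_map] at hx
          obtain ⟨i, -, rfl⟩ := hx
          simp
      · rw [if_neg h3]
        refine ⟨_, rfl, ?_⟩
        intro x hx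
        simp only [List.mem_flatMap, List.mem_map] at hx
        obtain ⟨e, -, q, -, rfl⟩ := hx
        simp
  · rw [if_neg h1, if_pos hc]
    exact ⟨_, rfl, by simp⟩

theorem sum_range_single (m : ℕ) (f : ℕ → F) (i : ℕ) (hi : i < m) (h : ∀ j < m, j ≠ i → f j = 0) :
    ((List.range m).map f).sum = f i := by
  induction m with
  | zero => omega
  | succ m ih =>
    rw [List.range_succ, List.map_append, List.sum_append, List.map_singleton, List.sum_singleton]
    by_cases him : i = m
    · subst him
      have h0 : ((List.range i).map f).sum = 0 := by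
        apply List.sum_eq_zero
        intro y hy
        simp only [List.mem_map, List.mem_range] at hy
        obtain ⟨j, hj, rfl⟩ := hy
        exact h j (by omega) (by omega)
      rw [h0, zero_add]
    · rw [ih (by omega) (fun j hj hji => h j (by omega) hji), h m (by omega) (fun e => him e.symm), add_zero]


/-- A root element of level `> m` raises the levels by more than `m`. -/
theorem x_raisM (w : ℕ → ℤ) (hw : Adm D w) (r : ℕ) (hr : r < D.nroots) (m : ℤ) (hm0 : 0 ≤ m) (hm : m < w r)
    (t : F) : RaisM (fun k => w (ix D k)) m (D.x F r t - 1) := by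
  intro i k h
  obtain ⟨rest, h1, h2⟩ := xEntries_head (D := D) r (ix D k) (ix_lt D k)
  have h3 : (D.x F r t - 1) i k = evalE D t rest i := by
    rw [Matrix.sub_apply, x_apply r hr, h1, evalE_cons]
    simp only [Pi.add_apply, Pi.smul_apply, basisV, Int.cast_one, pow_zero, mul_one, smul_eq_mul]
    by_cases hik : i = k
    · subst hik; simp
    · have : ix D i ≠ ix D k := fun e => hik (ix_injective D e)
      simp [this, Matrix.one_apply_ne hik]
  rw [h3] at h
  obtain ⟨x, hx, hix⟩ := evalE_ne_zero t rest i h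
  have hx' : x ∈ xEntries D r (ix D k) := by rw [h1]; exact List.mem_cons_of_mem _ hx
  have h4 := hw r hr (ix D k) x hx'
  have h5 : (1 : ℤ) ≤ (x.2.2 : ℤ) := by exact_mod_cast h2 x hx
  show w (ix D k) + m < w (ix D i)
  rw [hix, h4]
  nlinarith

/-- An admissible function is odd. -/
theorem adm_neg (hT : Tab D) (hT2 : Tab2 D) (w : ℕ → ℤ) (hw : Adm D w) (r : ℕ) (hr : r < D.nroots) :
    w (D.neg r) = - w r := by
  have hn := hT.neg_lt r hr
  have hne := hT2.neg_ne r hr
  have hmem : ((r, (-1 : ℤ), 2) : ℕ × ℤ × ℕ) ∈ xEntries D r (D.neg r) := by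
    unfold xEntries
    rw [if_pos hn, if_neg hne, if_pos (show D.neg r = D.negIdx.getD r 0 from rfl)]
    simp
  have h := hw r hr (D.neg r) _ hmem
  simp only [Nat.cast_ofNat] at h
  linarith

/-- The entry of `x_r(t)` at `(h_i, e_{-r})`. -/
theorem x_entry_h (hT : Tab D) (hT2 : Tab2 D) (r : ℕ) (hr : r < D.nroots) (i : ℕ) (hi : i < D.rank) (t : F) :
    D.x F r t (Sum.inl ⟨i, hi⟩) (Sum.inr ⟨D.neg r, hT.neg_lt r hr⟩) =
      (((D.coroot.getD r #[]).getD i 0 : ℤ) : F) * t := by
  have hn := hT.neg_lt r hr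
  have hne := hT2.neg_ne r hr
  rw [x_apply _ hr, evalE_apply_inl]
  have e1 : ix D (Sum.inr ⟨D.neg r, hn⟩ : D.Idx) = D.neg r := rfl
  rw [e1]
  unfold xEntries
  rw [if_pos hn, if_neg hne, if_pos (show D.neg r = D.negIdx.getD r 0 from rfl)]
  simp only [List.map_cons, List.sum_cons, List.map_map]
  have h3 : ((List.range D.rank).map ((fun x : ℕ × ℤ × ℕ => ((x.2.1 : ℤ) : F) * t ^ x.2.2 *
      (if D.nroots + (⟨i, hi⟩ : Fin D.rank).val = x.1 then 1 else 0)) ∘
      fun j => (D.nroots + j, (D.coroot.getD r #[]).getD j 0, 1))).sum =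
      (((D.coroot.getD r #[]).getD i 0 : ℤ) : F) * t := by
    rw [sum_range_single D.rank _ i hi]
    · show ((((D.coroot.getD r #[]).getD i 0 : ℤ)) : F) * t ^ 1 *
          (if D.nroots + i = D.nroots + i then 1 else 0) = _
      rw [if_pos rfl]; simp
    · intro j _ hji
      simp only [Function.comp]
      rw [if_neg (by show ¬ D.nroots + i = D.nroots + j; omega), mul_zero]
  rw [h3, if_neg (by show ¬ D.nroots + i = D.neg r; omega),
    if_neg (by show ¬ D.nroots + i = r; omega)]
  simp

/-- A root element `x_k(c)` raising the levels by more than the level of `k` is trivial. -/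
theorem eq_zero_of_xU_mem_raisM (hS : Sem D F z) (hT : Tab D) (hT2 : Tab2 D) (w : ℕ → ℤ) (hw : Adm D w)
    (hz : ∀ c, D.nroots ≤ c → w c = 0) (k : ℕ) (hk : k < D.nroots) (hpos : 0 ≤ w k) (bz : ℕ → ℤ)
    (hbz : ∑ i ∈ Finset.range D.rank, bz i * (D.coroot.getD k #[]).getD i 0 = 1) (c : F)
    (h : xU hS k c ∈ raisGroupM F (fun j => w (ix D j)) (w k) hpos) : c = 0 := by
  have hn := hT.neg_lt k hk
  have hne := hT2.neg_ne k hk
  have key : ∀ i < D.rank, (((D.coroot.getD k #[]).getD i 0 : ℤ) : F) * c = 0 := by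
    intro i hi
    by_contra h0
    have h1 : ((xU hS k c : GL D.Idx F) : Matrix D.Idx D.Idx F) (Sum.inl ⟨i, hi⟩)
        (Sum.inr ⟨D.neg k, hn⟩) ≠ 0 := by
      rw [xU_val, x_entry_h hT hT2 k hk i hi c]; exact h0
    have h2 : (((xU hS k c : GL D.Idx F) : Matrix D.Idx D.Idx F) - 1) (Sum.inl ⟨i, hi⟩)
        (Sum.inr ⟨D.neg k, hn⟩) ≠ 0 := by
      rw [Matrix.sub_apply, Matrix.one_apply_ne (by simp), sub_zero]; exact h1
    have h3 := h.1 _ _ h2
    have e1 : w (ix D (Sum.inr ⟨D.neg k, hn⟩ : D.Idx)) = - w k := adm_neg hT hT2 w hw k hk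
    have e2 : w (ix D (Sum.inl ⟨i, hi⟩ : D.Idx)) = 0 := hz _ (by show D.nroots ≤ D.nroots + i; omega)
    simp only [e1, e2] at h3
    omega
  have h4 : (((∑ i ∈ Finset.range D.rank, bz i * (D.coroot.getD k #[]).getD i 0 : ℤ)) : F) * c = 0 := by
    rw [Int.cast_sum, Finset.sum_mul]
    apply Finset.sum_eq_zero
    intro i hi
    rw [Int.cast_mul, mul_assoc, key i (Finset.mem_range.mp hi), mul_zero]
  rw [hbz, Int.cast_one, one_mul] at h4
  exact h4

/-- The positive roots of index at least `k`. -/
def PosGe (D : ChevalleyDatum) (k : ℕ) (s : ℕ) : Prop := D.IsPosRoot s ∧ k ≤ s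

/-- The terms of the commutator formula for positive roots `r < s` are positive roots of index `> r`. -/
def TabCP (D : ChevalleyDatum) : Prop :=
  ∀ r < D.nroots, D.IsPosRoot r → ∀ s < D.nroots, D.IsPosRoot s → r < s →
    ∀ c ∈ D.commTerms r s, D.IsPosRoot c.1 ∧ r < c.1

/-- An additive weight function increasing along the positive roots. -/
structure HtLex (D : ChevalleyDatum) (wh : ℕ → ℤ) : Prop where
  adm : Adm D wh
  zero : ∀ c, D.nroots ≤ c → wh c = 0
  pos : ∀ r < D.nroots, D.IsPosRoot r → 0 < wh r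
  mono : ∀ r < D.nroots, D.IsPosRoot r → ∀ s < D.nroots, D.IsPosRoot s → r < s → wh r < wh s

/-- The positive roots of index at least `k`, in increasing order. -/
def tailL (D : ChevalleyDatum) (k : ℕ) : List ℕ :=
  (List.range' k (D.nroots - k)).filter fun r => decide (D.IsPosRoot r)

/-- The ordered product of root elements over the positive roots of index at least `k`. -/
def tailW (hS : Sem D F z) (k : ℕ) (t : ℕ → F) : GL D.Idx F := wordU hS ((tailL D k).map fun r => (r, t r))

theorem tailL_ge (k : ℕ) (hk : D.nroots ≤ k) : tailL D k = [] := by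
  unfold tailL
  rw [Nat.sub_eq_zero_of_le hk]; rfl

theorem tailL_lt (k : ℕ) (hk : k < D.nroots) :
    tailL D k = if D.IsPosRoot k then k :: tailL D (k + 1) else tailL D (k + 1) := by
  unfold tailL
  have e : D.nroots - k = (D.nroots - (k + 1)) + 1 := by omega
  rw [e, List.range'_succ, List.filter_cons]
  by_cases hp : D.IsPosRoot k
  · simp [hp]
  · simp [hp]

theorem mem_tailL (k r : ℕ) (h : r ∈ tailL D k) : PosGe D k r := by
  unfold tailL at h
  rw [List.mem_filter, List.mem_range'_1] at h
  exact ⟨of_decide_eq_true h.2, h.1.1⟩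

theorem tailW_mem (hS : Sem D F z) (k : ℕ) (t : ℕ → F) : tailW hS k t ∈ rootGen D F (PosGe D k) := by
  apply wordU_mem
  intro p hp
  simp only [List.mem_map] at hp
  obtain ⟨r, hr, rfl⟩ := hp
  exact xU_mem_rootGen hS _ r (mem_tailL k r hr) _

theorem tailW_congr (hS : Sem D F z) (k : ℕ) (t t' : ℕ → F) (h : ∀ r, D.IsPosRoot r → k ≤ r → t r = t' r) :
    tailW hS k t = tailW hS k t' := by
  unfold tailW
  congr 1
  apply List.map_congr_left
  intro r hr
  have := mem_tailL k r hr
  rw [h r this.1 this.2]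

theorem tailW_ge (hS : Sem D F z) (k : ℕ) (hk : D.nroots ≤ k) (t : ℕ → F) : tailW hS k t = 1 := by
  unfold tailW
  rw [tailL_ge k hk]; rfl

theorem tailW_pos (hS : Sem D F z) (k : ℕ) (hk : k < D.nroots) (hp : D.IsPosRoot k) (t : ℕ → F) :
    tailW hS k t = xU hS k (t k) * tailW hS (k + 1) t := by
  unfold tailW
  rw [tailL_lt k hk, if_pos hp, List.map_cons, wordU_cons]

theorem tailW_not_pos (hS : Sem D F z) (k : ℕ) (hk : k < D.nroots) (hp : ¬ D.IsPosRoot k) (t : ℕ → F) :
    tailW hS k t = tailW hS (k + 1) t := by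
  unfold tailW
  rw [tailL_lt k hk, if_neg hp]

section Factor

variable (hS : Sem D F z) (hT : Tab D) (hT2 : Tab2 D)
  (hPc : ∀ r s, r < D.nroots → s < D.nroots → s ≠ r → s ≠ D.neg r → Pc D F r s)
  (hCP : TabCP D) {wh : ℕ → ℤ} (hH : HtLex D wh) (bz : ℕ → ℕ → ℤ)
  (hbz : ∀ k < D.nroots, D.IsPosRoot k →
    ∑ i ∈ Finset.range D.rank, bz k i * (D.coroot.getD k #[]).getD i 0 = 1)

include hT hPc hCP in
/-- `x_k(c)` normalizes the group generated by the root subgroups of the positive roots of larger index. -/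
theorem xU_mem_normalizer_posGe (k : ℕ) (hk : k < D.nroots) (hp : D.IsPosRoot k) (c : F) :
    xU hS k c ∈ Subgroup.normalizer (rootGen D F (PosGe D (k + 1)) : Set (GL D.Idx F)) := by
  apply xU_mem_normalizer_of_comm hS
  · intro s hs t u
    have hsn : s < D.nroots := hs.1.1
    have h1 : s ≠ k := by have := hs.2; omega
    have h2 : s ≠ D.neg k := by
      intro e
      have hneg : D.IsNegRoot (D.neg k) := (hT.pos_neg k hk).1 hp
      exact (hT.pos_neg s hsn).2.2.2 ⟨hs.1, e ▸ hneg⟩
    have h3 := (Pc_iff hS k s).mp (hPc k s hk hsn h1 h2) t u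
    rw [mul_assoc, inv_mul_eq_iff_eq_mul, ← mul_assoc]
    exact h3
  · intro s hs c' hc'
    have hsn : s < D.nroots := hs.1.1
    have := hCP k hk hp s hsn hs.1 (by have := hs.2; omega) c' hc'
    exact ⟨this.1, by omega⟩

include hT hPc hCP in
/-- Existence of the factorisation. -/
theorem exists_tailW : ∀ (d k : ℕ), k + d = D.nroots → ∀ g ∈ rootGen D F (PosGe D k),
    ∃ t : ℕ → F, g = tailW hS k t := by
  intro d
  induction d with
  | zero =>
    intro k hk g hg
    have h1 : rootGen D F (PosGe D k) ≤ ⊥ := by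
      apply rootGen_le hS
      intro r hr t
      have := hr.1.1
      have := hr.2
      omega
    have h2 := h1 hg
    rw [Subgroup.mem_bot] at h2
    exact ⟨fun _ => 0, by rw [h2, tailW_ge hS k (by omega)]⟩
  | succ d ih =>
    intro k hk g hg
    have hkn : k < D.nroots := by omega
    by_cases hp : D.IsPosRoot k
    · have hnorm : D.rootSubgroup F k ≤
          Subgroup.normalizer (rootGen D F (PosGe D (k + 1)) : Set (GL D.Idx F)) :=
        rootSubgroup_le hS k _ (fun c => xU_mem_normalizer_posGe hS hT hPc hCP k hkn hp c)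
      have hle : rootGen D F (PosGe D k) ≤ rootGen D F (PosGe D (k + 1)) ⊔ D.rootSubgroup F k := by
        apply rootGen_le hS
        intro r hr t
        by_cases hrk : r = k
        · subst hrk
          exact (le_sup_right : D.rootSubgroup F r ≤ _) (xU_mem_rootSubgroup hS r t)
        · exact (le_sup_left : rootGen D F (PosGe D (k + 1)) ≤ _)
            (xU_mem_rootGen hS _ r ⟨hr.1, by have := hr.2; omega⟩ t)
      obtain ⟨u, hu, x, hx, e⟩ := exists_mul_of_mem_sup _ _ hnorm g⁻¹
        (Subgroup.inv_mem _ (hle hg))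
      have e' : g = x⁻¹ * u⁻¹ := by
        have : g = (g⁻¹)⁻¹ := by group
        rw [this, e]; group
      obtain ⟨c, hc⟩ := exists_of_mem_rootSubgroup hS k x⁻¹ (Subgroup.inv_mem _ hx)
      obtain ⟨t', ht'⟩ := ih (k + 1) (by omega) u⁻¹ (Subgroup.inv_mem _ hu)
      refine ⟨Function.update t' k c, ?_⟩
      rw [tailW_pos hS k hkn hp, Function.update_self, e', hc, ht']
      congr 1
      apply tailW_congr
      intro r _ hr
      rw [Function.update_of_ne (by omega)]
    · have hle : rootGen D F (PosGe D k) ≤ rootGen D F (PosGe D (k + 1)) := by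
        apply rootGen_mono hS
        intro r hr
        refine ⟨hr.1, ?_⟩
        have := hr.2
        by_contra hcon
        have : r = k := by omega
        exact hp (this ▸ hr.1)
      obtain ⟨t, ht⟩ := ih (k + 1) (by omega) g (hle hg)
      exact ⟨t, by rw [tailW_not_pos hS k hkn hp]; exact ht⟩

include hT hT2 hH hbz in
/-- Uniqueness of the factorisation. -/
theorem tailW_inj : ∀ (d k : ℕ), k + d = D.nroots → ∀ t t' : ℕ → F, tailW hS k t = tailW hS k t' →
    ∀ r, D.IsPosRoot r → k ≤ r → t r = t' r := by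
  intro d
  induction d with
  | zero =>
    intro k hk t t' _ r hr hkr
    have := hr.1
    omega
  | succ d ih =>
    intro k hk t t' h r hr hkr
    have hkn : k < D.nroots := by omega
    by_cases hp : D.IsPosRoot k
    · rw [tailW_pos hS k hkn hp, tailW_pos hS k hkn hp] at h
      have hpos : 0 ≤ wh k := le_of_lt (hH.pos k hkn hp)
      have hle : rootGen D F (PosGe D (k + 1)) ≤ raisGroupM F (fun j => wh (ix D j)) (wh k) hpos := by
        apply rootGen_le hS
        intro s hs u
        have hsn : s < D.nroots := hs.1.1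
        have hlt := hH.mono k hkn hp s hsn hs.1 (by have := hs.2; omega)
        refine ⟨?_, ?_⟩
        · rw [xU_val]; exact x_raisM _ hH.adm s hsn _ hpos hlt u
        · rw [xU_inv, xU_val]; exact x_raisM _ hH.adm s hsn _ hpos hlt (-u)
      have h1 : xU hS k (t k - t' k) = tailW hS (k + 1) t' * (tailW hS (k + 1) t)⁻¹ := by
        have e1 : xU hS k (t k - t' k) = (xU hS k (t' k))⁻¹ * xU hS k (t k) := by
          rw [xU_inv, xU_mul]; congr 1; ring
        rw [e1, inv_mul_eq_iff_eq_mul, ← mul_assoc, ← h]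
        group
      have h2 : xU hS k (t k - t' k) ∈ raisGroupM F (fun j => wh (ix D j)) (wh k) hpos := by
        rw [h1]
        exact Subgroup.mul_mem _ (hle (tailW_mem hS _ _)) (Subgroup.inv_mem _ (hle (tailW_mem hS _ _)))
      have h3 := eq_zero_of_xU_mem_raisM hS hT hT2 wh hH.adm hH.zero k hkn hpos (bz k)
        (hbz k hkn hp) _ h2
      have h4 : t k = t' k := sub_eq_zero.mp h3
      by_cases hrk : r = k
      · rw [hrk]; exact h4
      · rw [h4] at h
        exact ih (k + 1) (by omega) t t' (mul_left_cancel h) r hr (by omega)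
    · rw [tailW_not_pos hS k hkn hp, tailW_not_pos hS k hkn hp] at h
      have hrk : r ≠ k := fun e => hp (e ▸ hr)
      exact ih (k + 1) (by omega) t t' h r hr (by omega)

theorem tailL_zero : tailL D 0 = D.posRoots := by
  unfold tailL ChevalleyDatum.posRoots
  rw [Nat.sub_zero, List.range_eq_range']

include hS hT hT2 hPc hCP hH hbz in
/-- Every element of `U` is uniquely an ordered product of root elements over the positive roots. -/
theorem unique_factor (g : GL D.Idx F) (hg : g ∈ D.posUnipotent F) :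
    ∃! t : ℕ → F, (∀ r, ¬ D.IsPosRoot r → t r = 0) ∧
      (g : Matrix D.Idx D.Idx F) = D.wordMat F (D.posRoots.map fun r => (r, t r)) := by
  classical
  have hg' : g ∈ rootGen D F (PosGe D 0) := by
    rw [posUnipotent_eq] at hg
    exact rootGen_mono hS (D.IsPosRoot) _ (fun r hr => ⟨hr, Nat.zero_le _⟩) hg
  obtain ⟨t₀, ht₀⟩ := exists_tailW hS hT hPc hCP D.nroots 0 (by omega) g hg'
  have hval : ∀ t : ℕ → F, ((tailW hS 0 t : GL D.Idx F) : Matrix D.Idx D.Idx F) =
      D.wordMat F (D.posRoots.map fun r => (r, t r)) := by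
    intro t
    unfold tailW
    rw [wordU_val, tailL_zero]
  refine ⟨fun r => if D.IsPosRoot r then t₀ r else 0, ⟨fun r hr => if_neg hr, ?_⟩, ?_⟩
  · rw [← hval, ht₀]
    congr 1
    apply tailW_congr
    intro r hr _
    rw [if_pos hr]
  · rintro t' ⟨h1, h2⟩
    funext r
    by_cases hr : D.IsPosRoot r
    · rw [if_pos hr]
      have h3 : tailW hS 0 t' = tailW hS 0 t₀ := by
        apply Units.ext
        rw [hval, ← h2, ht₀]
      exact tailW_inj hS hT hT2 hH bz hbz D.nroots 0 (by omega) t' t₀ h3 r hr (Nat.zero_le _)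
    · rw [if_neg hr, h1 r hr]

include hS in
/-- Every ordered product of root elements over the positive roots lies in `U`. -/
theorem exists_of_word (t : ℕ → F) : ∃ g : GL D.Idx F, g ∈ D.posUnipotent F ∧
    (g : Matrix D.Idx D.Idx F) = D.wordMat F (D.posRoots.map fun r => (r, t r)) := by
  refine ⟨wordU hS (D.posRoots.map fun r => (r, t r)), ?_, wordU_val hS _⟩
  apply wordU_mem
  intro p hp
  simp only [List.mem_map] at hp
  obtain ⟨r, hr, rfl⟩ := hp
  unfold ChevalleyDatum.posRoots at hr
  rw [List.mem_filter] at hr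
  rw [posUnipotent_eq]
  exact xU_mem_rootGen hS _ r (of_decide_eq_true hr.2) _

end Factor

end Cfsg.Agent.H96.G2L
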