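import Cfsg.Agent.H96.G2L.UProd
import Cfsg.Agent.H23.CommAll2

set_option autoImplicit false

/-!
# Unique factorisation in `U`: reduction of the table facts to fast checks
-/

namespace Cfsg.Agent.H96.G2L

open Cfsg.Agent.H23

open Cfsg.Lie

variable {D : ChevalleyDatum} {F : Type*} [Field F] {z : ℕ → ℕ → ℤ}

/-- The check of `TabCP` for the root `r`, computed from the packed chain table. -/
def cpRowF (n CH r : ℕ) : Bool :=
  allFrom (fun s => (commTermsG (chainF n CH) r s).all (fun c => Nat.blt r c.1 && Nat.blt c.1 n))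
    (r + 1) (n - (r + 1))

theorem tabCP_of {CH : ℕ} (h : ChFOK D CH) (hHalf : ∀ r < D.nroots, D.IsPosRoot r ↔ D.nroots / 2 ≤ r)
    (hrows : allFrom (cpRowF D.nroots CH) (D.nroots / 2) (D.nroots - D.nroots / 2) = true) : TabCP D := by
  intro r hr hp s hs _ hrs c hc
  have h1 := allFrom_sound _ _ _ hrows r ((hHalf r hr).mp hp) (by omega)
  unfold cpRowF at h1
  have h2 := allFrom_sound _ _ _ h1 s (by omega) (by omega)
  rw [h.commTerms r s] at hc
  have h3 := List.all_eq_true.mp h2 c hc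
  rw [Bool.and_eq_true] at h3
  have h4 := Nat.blt_eq.mp h3.1
  have h5 := Nat.blt_eq.mp h3.2
  refine ⟨(hHalf c.1 h5).mpr ?_, h4⟩
  have := (hHalf r hr).mp hp
  omega

theorem htLex_of {ctbl : List ℕ} {cr : List ℤ} (hadm : ∀ Z ∈ ctbl, Adm D (zS Z D.nroots))
    (hHalf : ∀ r < D.nroots, D.IsPosRoot r ↔ D.nroots / 2 ≤ r)
    (hpos : ∀ r < D.nroots, D.nroots / 2 ≤ r → 0 < zRl cr ctbl D.nroots r)
    (hmono : ∀ r < D.nroots, D.nroots / 2 ≤ r → ∀ s < D.nroots, r < s →
      zRl cr ctbl D.nroots r < zRl cr ctbl D.nroots s) : HtLex D (zRl cr ctbl D.nroots) where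
  adm := adm_zRl D _ _ hadm
  zero := fun c hc => zRl_ge _ _ _ c hc
  pos := fun r hr hp => hpos r hr ((hHalf r hr).mp hp)
  mono := fun r hr hp s hs _ hrs => hmono r hr ((hHalf r hr).mp hp) s hs hrs

/-- The Bezout coefficients read off a table indexed by the positive roots. -/
def bzF (D : ChevalleyDatum) (bz : List (List ℤ)) (k i : ℕ) : ℤ := (bz.getD (k - D.nroots / 2) []).getD i 0

theorem bez_of (bz : List (List ℤ)) (hHalf : ∀ r < D.nroots, D.IsPosRoot r ↔ D.nroots / 2 ≤ r)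
    (h : ∀ k < D.nroots, D.nroots / 2 ≤ k →
      ((List.range D.rank).map fun i => bzF D bz k i * (D.coroot.getD k #[]).getD i 0).sum = 1) :
    ∀ k < D.nroots, D.IsPosRoot k →
      ∑ i ∈ Finset.range D.rank, bzF D bz k i * (D.coroot.getD k #[]).getD i 0 = 1 := by
  intro k hk hp
  rw [← list_range_sumZ]
  exact h k hk ((hHalf k hk).mp hp)

/-- The statement on the factorisation in `U`. -/
theorem factor_of (hS : Sem D F z) (hT : Tab D) (hT2 : Tab2 D)
    (hPc : ∀ r s, r < D.nroots → s < D.nroots → s ≠ r → s ≠ D.neg r → Pc D F r s)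
    (hCP : TabCP D) {wh : ℕ → ℤ} (hH : HtLex D wh) (bz : ℕ → ℕ → ℤ)
    (hbz : ∀ k < D.nroots, D.IsPosRoot k →
      ∑ i ∈ Finset.range D.rank, bz k i * (D.coroot.getD k #[]).getD i 0 = 1) :
    (∀ g : GL D.Idx F, g ∈ D.posUnipotent F →
      ∃! t : ℕ → F, (∀ r, ¬ D.IsPosRoot r → t r = 0) ∧
        (g : Matrix D.Idx D.Idx F) = D.wordMat F (D.posRoots.map fun r => (r, t r))) ∧
    (∀ t : ℕ → F, ∃ g : GL D.Idx F, g ∈ D.posUnipotent F ∧
      (g : Matrix D.Idx D.Idx F) = D.wordMat F (D.posRoots.map fun r => (r, t r))) :=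
  ⟨fun g hg => unique_factor hS hT hT2 hPc hCP hH bz hbz g hg, fun t => exists_of_word hS t⟩

end Cfsg.Agent.H96.G2L
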